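import Cfsg.Agent.H22.QGroup

/-! Groups with dihedral Sylow 2-subgroups and trivial core: the derived group. -/

set_option autoImplicit false

namespace Cfsg.Agent.G2S

open Subgroup Function Cfsg.Agent.H22
open scoped MatrixGroups commutatorElement

universe u

theorem gwY {Y : Type u} [Group Y] [Finite Y] (T : Sylow 2 Y) {m : ℕ}
    (e : (T : Subgroup Y) ≃* DihedralGroup (2 ^ (m + 2))) (hO : pPrimeCore 2 Y = ⊥)
    (hT : ¬ commutator Y ≤ T) (N : Subgroup Y) [hn : N.Normal] (hN : N ≠ ⊥)
    (hTN : ¬ (T : Subgroup Y) ≤ N) :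
    (∃ (F : Type) (_ : Field F) (_ : Fintype F), Odd (Fintype.card F) ∧ 3 < Fintype.card F ∧
      Nonempty (commutator Y ≃* PSL(2, F)) ∧ ⁅commutator Y, commutator Y⁆ = commutator Y ∧
      commutator Y ≤ N) ∨
    ((T : Subgroup Y).index = 3 ∧ Nat.card (commutator Y) ≤ 12) := by
  have h2m : 0 < 2 ^ m := by positivity
  have hD : GW.Dihed Y := ⟨T, _, by rw [pow_add]; omega, ⟨e⟩⟩
  by_cases hs : Group.IsSolvable Y
  · right
    obtain ⟨L, _, -, hL, h12, -⟩ := gw_solv hD hO fun h =>
      hT (le_top.trans ((h.to_subgroup ⊤).le_sylow_of_normal T))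
    have h1 := L.card_mul_index
    have h2 := (T : Subgroup Y).card_mul_index
    rw [Nat.card_congr e.toEquiv, DihedralGroup.nat_card, pow_add] at h2
    have h3 := T.not_dvd_index
    have h4 : L.index = 2 := by
      rcases (Nat.dvd_prime Nat.prime_two).1 hL with h | h
      · rw [h12, h, ← h2] at h1
        have : 8 ∣ 12 * 1 := ⟨2 ^ m * (T : Subgroup Y).index, by rw [h1]; ring⟩
        omega
      · exact h
    refine ⟨?_, h12 ▸ card_le_of_le (commutator_le.2 fun a _ b _ => by
      simp only [commutatorElement_def, mul_mem_iff_of_index_two h4, inv_mem_iff]; tauto)⟩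
    rw [h12, h4, ← h2] at h1
    have h5 : 2 ^ m * (T : Subgroup Y).index = 3 := by linarith
    rcases m with _ | m
    · simpa using h5
    · rw [pow_succ, mul_assoc, mul_left_comm] at h5; omega
  left
  obtain ⟨L, _, hp, -, -, hC, hL⟩ := gw_nonsolv hD hO hs
  have key : IsSimpleGroup L → L ≤ N := fun hsim => by
    rcases hsim.eq_bot_or_eq_top_of_normal (N.subgroupOf L) inferInstance with h | h
    · rw [subgroupOf_eq_bot] at h
      exact absurd (le_bot_iff.1 (hC ▸ fun u hu v hv =>
        (commute_of_normal_of_disjoint _ _ hn inferInstance h u v hu hv).symm)) hN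
    · exact subgroupOf_eq_top.1 h
  rcases hL with ⟨F, _, _, hF, hF3, ⟨f⟩⟩ | ⟨⟨f⟩, hodd⟩
  · have : IsSimpleGroup PSL(2, F) := Matrix.ProjectiveSpecialLinearGroup.rank_two_simple
      (by rwa [Nat.card_eq_fintype_card])
    have h10 : commutator Y = L :=
      le_antisymm (commutator_le_of_psl hC hF hF3 f) (hp ▸ commutator_mono le_top le_top)
    rw [h10]
    exact ⟨F, _, _, hF, hF3, ⟨f⟩, hp, key f.isSimpleGroup⟩
  · have : IsSimpleGroup (alternatingGroup (Fin 7)) := alternatingGroup.isSimpleGroup (by simp)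
    refine absurd (le_trans ?_ (key f.isSimpleGroup)) hTN
    exact (H49.isPi_of_isPGroup Nat.prime_two T.isPGroup').le_of_relIndex
      ((H49.isPiNat_compl_singleton Nat.prime_two).2 fun h =>
        hodd.not_two_dvd_nat (h.trans (relIndex_dvd_index_of_normal _ _)))

/-- a group of order at most 24 with quaternion Sylow 2-subgroups and trivial core -/
theorem sl_two_three {K : Type u} [Group K] [Finite K] (P : Sylow 2 K) {m : ℕ}
    (e : (P : Subgroup K) ≃* QuaternionGroup (2 ^ (m + 1))) (hO : pPrimeCore 2 K = ⊥)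
    (hn2 : ¬ IsPGroup 2 K) (h4 : Nat.card K ≤ 24) : Nonempty (K ≃* SL(2, ZMod 3)) := by
  obtain ⟨H, N, _, ⟨f⟩⟩ := (S0106.result P (m + 1) (by omega) ⟨e⟩).resolve_left fun h =>
    hn2 (isPGroup_of_hasNormalPComplement hO h)
  have h24 : Nat.card SL(2, ZMod 3) = 24 := by rw [H9.card_sl_two, ZMod.card]; rfl
  have h5 := (N.subgroupOf H).card_mul_index
  rw [index_eq_card, Nat.card_congr f.toEquiv, h24] at h5
  have h6 := H.card_le_card_group
  have h7 : 0 < Nat.card (N.subgroupOf H) := Nat.card_pos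
  have h8 : H = ⊤ := eq_top_of_card_eq _ (by omega)
  have h9 : N.subgroupOf H = ⊥ := card_eq_one.1 (by omega)
  exact ⟨(topEquiv.symm.trans (MulEquiv.subgroupCongr h8.symm)).trans
    ((QuotientGroup.quotientBot.symm.trans (QuotientGroup.quotientMulEquivOfEq h9.symm)).trans f)⟩

end Cfsg.Agent.G2S
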