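import Cfsg.Agent.G2S.Model2
import Cfsg.Agent.SR4.RDefs

/-! Parametrisation of a subgroup with the relations `SR4.GRel` by the model group. -/

set_option autoImplicit false

namespace Cfsg.Agent.G2S

open M Subgroup Function

variable {G : Type*} [Group G]

theorem exists_hom {S N : Subgroup G} {k : ℕ} {x s c : G} (hk : 2 ≤ k)
    (h : SR4.GRel S N k (-1) x s c) :
    ∃ (n : ℕ) (ψ : M n →* G), Injective ψ ∧ ψ.range = S := by
  obtain ⟨n, rfl⟩ := Nat.exists_eq_add_of_le' hk
  obtain ⟨⟨hc, hm, hr⟩, ss, cc, sc, cx, mem, sN, cN, scN⟩ := h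
  set y := s * x * s⁻¹ with hy
  have hc : Commute x y := hc
  have si : s⁻¹ = s := inv_eq_of_mul_eq_one_right ss
  have ci : c⁻¹ = c := inv_eq_of_mul_eq_one_right cc
  have add : ∀ i j a b : ℤ, x ^ (i + a) * y ^ (j + b) = x ^ i * y ^ j * (x ^ a * y ^ b) :=
    fun i j a b => by
      rw [zpow_add, zpow_add, (hc.zpow_zpow a j).mul_mul_mul_comm]
  have inj : ∀ i j a b : ℤ, x ^ i * y ^ j = x ^ a * y ^ b ↔ (i : R n) = a ∧ (j : R n) = b :=
    fun i j a b => by
      rw [← sub_eq_zero (a := (i : R n)), ← sub_eq_zero (a := (j : R n)), ← Int.cast_sub,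
        ← Int.cast_sub, cast_eq_zero, cast_eq_zero, ← hr]
      have := add (i - a) (j - b) a b
      rw [sub_add_cancel, sub_add_cancel] at this
      rw [this, mul_eq_right]
  let E : R n → R n → G := fun i j => x ^ (i.val : ℤ) * y ^ (j.val : ℤ)
  have hE : ∀ i j : ℤ, E i j = x ^ i * y ^ j := fun i j => (inj _ _ _ _).2 (by simp)
  have sx : ∀ i : ℤ, s * x ^ i = y ^ i * s := fun i => by rw [hy, conj_zpow]; group
  have sy : ∀ i : ℤ, s * y ^ i = x ^ i * s := fun i => by
    rw [hy, conj_zpow, ← mul_assoc, ← mul_assoc, ss, one_mul, si]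
  have cx' : ∀ i : ℤ, c * x ^ i = x ^ (-i) * c := fun i => by
    rw [← mul_inv_eq_iff_eq_mul, ← conj_zpow, cx]; group
  have cy' : ∀ i : ℤ, c * y ^ i = y ^ (-i) * c := fun i => by
    rw [hy, conj_zpow, conj_zpow, si, ← mul_assoc, ← mul_assoc, ← sc, mul_assoc s c, cx']
    simp only [mul_assoc, sc]
  have Eadd : ∀ i j a b, E (i + a) (j + b) = E i j * E a b := fun i j a b => by
    obtain ⟨i, rfl⟩ := ZMod.intCast_surjective i
    obtain ⟨j, rfl⟩ := ZMod.intCast_surjective j
    obtain ⟨a, rfl⟩ := ZMod.intCast_surjective a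
    obtain ⟨b, rfl⟩ := ZMod.intCast_surjective b
    rw [← Int.cast_add, ← Int.cast_add, hE, hE, hE, add]
  have Es : ∀ a b g, s * (E a b * g) = E b a * (s * g) := fun a b g => by
    obtain ⟨a, rfl⟩ := ZMod.intCast_surjective a
    obtain ⟨b, rfl⟩ := ZMod.intCast_surjective b
    rw [hE, hE, ← mul_assoc, ← mul_assoc, sx, mul_assoc _ s, sy, ← (hc.zpow_zpow b a).eq.symm]
    group
  have Ec : ∀ a b g, c * (E a b * g) = E (-a) (-b) * (c * g) := fun a b g => by
    obtain ⟨a, rfl⟩ := ZMod.intCast_surjective a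
    obtain ⟨b, rfl⟩ := ZMod.intCast_surjective b
    rw [← Int.cast_neg, ← Int.cast_neg, hE, hE, ← mul_assoc, ← mul_assoc, cx', mul_assoc _ c, cy']
    group
  have ss' : ∀ g, s * (s * g) = g := fun g => by rw [← mul_assoc, ss, one_mul]
  have cc' : ∀ g, c * (c * g) = g := fun g => by rw [← mul_assoc, cc, one_mul]
  have sc' : ∀ g, c * (s * g) = s * (c * g) := fun g => by rw [← mul_assoc, ← sc, mul_assoc]
  have EN : ∀ a b, E a b ∈ N := fun a b => (hm _).2 ⟨_, _, rfl⟩
  let F : Bool → Bool → G := fun e f => (if e then s else 1) * ((if f then c else 1) * 1)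
  let ψ : M n →* G := MonoidHom.mk' (fun a => E a.i a.j * F a.e a.f) (by
    rintro ⟨i, j, _ | _, _ | _⟩ ⟨a, b, _ | _, _ | _⟩ <;>
      simp only [F, mul_ff, mul_tf, mul_ft, mul_tt, sub_eq_add_neg, Eadd, Bool.not_false, Bool.not_true,
        Bool.false_eq_true, if_true, if_false, one_mul, mul_assoc, Es, Ec, ss', cc', sc'])
  have hψ : ∀ i j e f, ψ ⟨i, j, e, f⟩ = E i j * F e f := fun _ _ _ _ => rfl
  refine ⟨n, ψ, (injective_iff_map_eq_one ψ).2 ?_, ?_⟩
  · rintro ⟨i, j, e, f⟩ h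
    rw [hψ] at h
    have hF : F e f ∈ N := by
      rw [← mul_mem_cancel_left (EN i j), h]; exact one_mem _
    obtain ⟨i, rfl⟩ := ZMod.intCast_surjective i
    obtain ⟨j, rfl⟩ := ZMod.intCast_surjective j
    rcases e with _ | _ <;> rcases f with _ | _ <;> simp [F, sN, cN, scN] at hF
    have := (inj i j 0 0).1 (by simpa [F, hE] using h)
    simpa [one_def] using this
  · ext g
    rw [mem]
    constructor
    · rintro ⟨⟨i, j, _ | _, _ | _⟩, rfl⟩ <;>
        simp only [hψ, F, Bool.false_eq_true, if_true, if_false, one_mul, mul_assoc, Es, Ec, ss', cc',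
          sc'] <;> simp [EN]
    · have key : ∀ w ∈ N, w ∈ ψ.range := fun w hw => by
        obtain ⟨i, j, rfl⟩ := (hm _).1 hw
        exact ⟨⟨i, j, false, false⟩, by simp [hψ, F, hE]⟩
      have e0 : E 0 0 = 1 := by simpa using hE 0 0
      have hs : s ∈ ψ.range := ⟨⟨0, 0, true, false⟩, by simp [hψ, F, e0]⟩
      have hc : c ∈ ψ.range := ⟨⟨0, 0, false, true⟩, by simp [hψ, F, e0]⟩
      rintro (h | h | h | h)
      · exact key g h
      · exact (mul_mem_cancel_left hs).1 (key _ h)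
      · exact (mul_mem_cancel_left hc).1 (key _ h)
      · exact (mul_mem_cancel_left (mul_mem hs hc)).1 (key _ h)

end Cfsg.Agent.G2S
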